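import Cfsg.Agent.H734.HT.UDefs
import Cfsg.Agent.H681.IP.Sec

/-!
# S4933, box o.psu.e1: `p`-subgroups of the frame stabiliser whose degrees are `1, p ^ a` have `a = 1` (helper361)

`p` odd, `p ∣ q + 1`, `p ∤ n`, `n < p ^ 2`, `R` a `p`-subgroup of the frame stabiliser containing a nonabelian Sylow
`p`-subgroup of `PSU n F q`: the stabiliser `M` of a coordinate `i` in an orbit of size `p` has index `p`, and
`M' ≠ R'`, detected by `δ(A) = (A_ii ^ n / det A) ^ ((q + 1) / p)`.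
-/

set_option autoImplicit false

namespace Cfsg.Agent.H361.HT.AOne

open Cfsg Matrix Cfsg.Agent.LieClassical.HermSiegel Cfsg.Agent.ClassicalGeometry.PSUAutCount
  Cfsg.Agent.Schreier.PSU Cfsg.Agent.H734.HT MulAction
open Cfsg.Agent.ClassicalGeometry.UnitAutBasic (pr pr_surjective)
open scoped commutatorElement

section Choice

variable {F : Type*} [Field F] {q n : ℕ}

/-- the permutation of an element of the frame stabiliser -/
noncomputable def sg (x : Fr n F q) : Equiv.Perm (Fin n) := Classical.choose (mem_Fr.1 x.2)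

/-- a matrix of an element of the frame stabiliser -/
noncomputable def mt (x : Fr n F q) : GU n F q := Classical.choose (Classical.choose_spec (mem_Fr.1 x.2))

/-- the field automorphism of an element of the frame stabiliser -/
noncomputable def fa (x : Fr n F q) : F ≃+* F :=
  Classical.choose (Classical.choose_spec (Classical.choose_spec (mem_Fr.1 x.2)))

theorem mon_mt (x : Fr n F q) : Mon (sg x) (mt x) :=
  (Classical.choose_spec (Classical.choose_spec (Classical.choose_spec (mem_Fr.1 x.2)))).1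

theorem eq_toAut (x : Fr n F q) : (x : MulAut (PSU n F q)) = toAut (mt x) (fa x) :=
  (Classical.choose_spec (Classical.choose_spec (Classical.choose_spec (mem_Fr.1 x.2)))).2

/-- the invariant of a matrix -/
noncomputable def dm (p : ℕ) (i : Fin n) (A : GU n F q) : F := (gm A i i ^ n * (gm A).det⁻¹) ^ ((q + 1) / p)

theorem dm_map (p : ℕ) (i : Fin n) (ρ : F ≃+* F) (A : GU n F q) : dm p i (mapGU ρ A) = ρ (dm p i A) := by
  have h1 : (gm (mapGU ρ A)).det = ρ (gm A).det := by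
    have h2 : gm (mapGU ρ A) = (ρ : F →+* F).mapMatrix (gm A) := by
      ext i j
      rfl
    rw [h2, ← RingHom.map_det]
    rfl
  rw [dm, dm, gm_map, h1, map_pow, map_mul, map_pow, map_inv₀]

theorem dm_mul (p : ℕ) {i : Fin n} {σ τ : Equiv.Perm (Fin n)} {A B : GU n F q} (hA : Mon σ A) (hB : Mon τ B)
    (h1 : σ i = i) (h2 : τ i = i) : dm p i (A * B) = dm p i A * dm p i B := by
  have h3 := hA.entry_mul hB i
  rw [Equiv.Perm.mul_apply, h2, h1] at h3
  rw [dm, dm, dm, h3, gm_mul, det_mul, mul_inv, mul_pow, mul_pow, mul_pow, mul_pow]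
  ring

theorem dm_smul (p : ℕ) (i : Fin n) {A B : GU n F q} {c : F} (hc : c ≠ 0) (h : gm B = c • gm A) :
    dm p i B = dm p i A := by
  rw [dm, dm, h, Matrix.smul_apply, det_smul, Fintype.card_fin, smul_eq_mul]
  congr 1
  have h1 : c ^ n ≠ 0 := pow_ne_zero _ hc
  rw [mul_pow, mul_inv]
  linear_combination (gm A i i ^ n * (gm A).det⁻¹) * (mul_inv_cancel₀ h1)

theorem dm_pow [Fintype F] (hF : Fintype.card F = q ^ 2) {p : ℕ} (hpq : p ∣ q + 1) {i : Fin n}
    {σ : Equiv.Perm (Fin n)} {A : GU n F q} (hA : Mon σ A) (h1 : σ i = i) : dm p i A ^ p = 1 := by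
  have h2 : gm A i i ^ (q + 1) = 1 := by
    have h3 := hA.norm i
    rw [h1, ← pow_succ'] at h3
    exact h3
  have h4 : (gm A).det ^ (q + 1) = 1 := ClassicalGeometry.GUBasic.det_pow hF A.2
  rw [dm, ← pow_mul, Nat.div_mul_cancel hpq, mul_pow, inv_pow, h4, ← pow_mul, mul_comm n, pow_mul, h2, one_pow]
  simp

theorem dm_ne_zero [Fintype F] (hF : Fintype.card F = q ^ 2) {p : ℕ} (hp : p ≠ 0) (hpq : p ∣ q + 1) {i : Fin n}
    {σ : Equiv.Perm (Fin n)} {A : GU n F q} (hA : Mon σ A) (h1 : σ i = i) : dm p i A ≠ 0 := by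
  intro h
  have h2 := dm_pow hF hpq hA h1
  rw [h, zero_pow hp] at h2
  exact zero_ne_one h2

end Choice

section Uniq

variable {F : Type*} [Field F] [Fintype F] {q n : ℕ}

theorem uniq (hF : Fintype.card F = q ^ 2) (hn : 3 ≤ n) {σ τ : Equiv.Perm (Fin n)} {A B : GU n F q}
    {ρ ρ' : F ≃+* F} (hA : Mon σ A) (hB : Mon τ B) (h : toAut A ρ = toAut B ρ') :
    τ = σ ∧ ρ' = ρ ∧ ∃ c : F, c ≠ 0 ∧ gm B = c • gm A := by
  obtain ⟨h1, c, hc, h2⟩ := eq_of_toAut_eq hF hn h
  exact ⟨(hA.smul h2).uniq hB ▸ rfl, h1, c, ne_zero_of_norm hc, h2⟩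

theorem uniq_mt (hF : Fintype.card F = q ^ 2) (hn : 3 ≤ n) {σ : Equiv.Perm (Fin n)} {A : GU n F q}
    {ρ : F ≃+* F} (hA : Mon σ A) {x : Fr n F q} (h : (x : MulAut (PSU n F q)) = toAut A ρ) :
    sg x = σ ∧ fa x = ρ ∧ ∃ c : F, c ≠ 0 ∧ gm (mt x) = c • gm A :=
  uniq hF hn hA (mon_mt x) (h.symm.trans (eq_toAut x))

theorem dm_eq (hF : Fintype.card F = q ^ 2) (hn : 3 ≤ n) (p : ℕ) (i : Fin n) {σ : Equiv.Perm (Fin n)} {A : GU n F q}
    {ρ : F ≃+* F} (hA : Mon σ A) {x : Fr n F q} (h : (x : MulAut (PSU n F q)) = toAut A ρ) :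
    dm p i (mt x) = dm p i A := by
  obtain ⟨-, -, c, hc, h1⟩ := uniq_mt hF hn hA h
  exact dm_smul p i hc h1

omit [Fintype F] in
theorem coe_mul_eq (x y : Fr n F q) :
    ((x * y : Fr n F q) : MulAut (PSU n F q)) = toAut (mt x * mapGU (fa x) (mt y)) (fa x * fa y) := by
  rw [Subgroup.coe_mul, eq_toAut x, eq_toAut y, toAut_mul]

theorem sg_mul (hF : Fintype.card F = q ^ 2) (hn : 3 ≤ n) (x y : Fr n F q) : sg (x * y) = sg x * sg y :=
  (uniq_mt hF hn ((mon_mt x).mul ((mon_mt y).map _)) (coe_mul_eq x y)).1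

theorem fa_mul (hF : Fintype.card F = q ^ 2) (hn : 3 ≤ n) (x y : Fr n F q) : fa (x * y) = fa x * fa y :=
  (uniq_mt hF hn ((mon_mt x).mul ((mon_mt y).map _)) (coe_mul_eq x y)).2.1

/-- the permutation, as a homomorphism -/
noncomputable def sgHom (hF : Fintype.card F = q ^ 2) (hn : 3 ≤ n) : Fr n F q →* Equiv.Perm (Fin n) :=
  MonoidHom.mk' sg (sg_mul hF hn)

/-- the field automorphism, as a homomorphism -/
noncomputable def faHom (hF : Fintype.card F = q ^ 2) (hn : 3 ≤ n) : Fr n F q →* (F ≃+* F) :=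
  MonoidHom.mk' fa (fa_mul hF hn)

theorem dm_mt_mul (hF : Fintype.card F = q ^ 2) (hn : 3 ≤ n) (p : ℕ) {i : Fin n} (x y : Fr n F q)
    (h1 : sg x i = i) (h2 : sg y i = i) : dm p i (mt (x * y)) = dm p i (mt x) * fa x (dm p i (mt y)) := by
  rw [dm_eq hF hn p i ((mon_mt x).mul ((mon_mt y).map _)) (coe_mul_eq x y),
    dm_mul p (mon_mt x) ((mon_mt y).map _) h1 h2, dm_map]

omit [Fintype F] in
/-- an automorphism of `p`-power order fixes the `p`-th roots of unity -/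
theorem fix_of_pow {p : ℕ} [Fact p.Prime] {ρ : F ≃+* F} {k : ℕ} (hρ : ρ ^ p ^ k = 1) {z : F} (hz : z ^ p = 1) :
    ρ z = z := by
  have hz0 : z ≠ 0 := by
    rintro rfl
    rw [zero_pow (Fact.out : p.Prime).ne_zero] at hz
    exact zero_ne_one hz
  have hup : Units.mk0 z hz0 ^ p = 1 := by
    ext
    rw [Units.val_pow_eq_pow_val, Units.val_mk0, hz, Units.val_one]
  have hu : ∀ j : ℕ, ((Units.mk0 z hz0 ^ j : Fˣ) : F) = z ^ j := fun j => by
    rw [Units.val_pow_eq_pow_val, Units.val_mk0]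
  obtain ⟨m, hm⟩ := map_rootsOfUnity_eq_pow_self ρ ⟨Units.mk0 z hz0, (mem_rootsOfUnity _ _).2 hup⟩
  have hm' : ρ z = z ^ m := hm
  have h1 : ∀ j : ℕ, (ρ ^ j) z = z ^ m ^ j := by
    intro j
    induction j with
    | zero => rw [pow_zero, pow_zero, pow_one]; rfl
    | succ j ih =>
      rw [pow_succ', RingAut.mul_apply, ih, map_pow, hm', ← pow_mul, ← pow_succ']
  have h2 := h1 (p ^ k)
  rw [hρ] at h2
  change z = z ^ m ^ p ^ k at h2
  rw [hm']
  by_cases hz1 : z = 1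
  · rw [hz1, one_pow]
  · have ho : orderOf (Units.mk0 z hz0) = p := by
      refine orderOf_eq_prime hup fun h => hz1 ?_
      have h' := congrArg (fun w : Fˣ => (w : F)) h
      exact h'
    have h3 : (1 : ℕ) ≡ m ^ p ^ k [MOD p] := by
      rw [← ho]
      refine pow_eq_pow_iff_modEq.1 (Units.ext ?_)
      rw [hu, hu, pow_one, ho, ← h2]
    have h4 : (m : ZMod p) ^ p ^ k = m := ZMod.pow_card_pow _
    have h5 : m ≡ 1 [MOD p] := by
      rw [← ZMod.natCast_eq_natCast_iff]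
      have h6 := (ZMod.natCast_eq_natCast_iff _ _ p).2 h3
      rw [Nat.cast_pow, h4] at h6
      exact h6.symm
    have h7 : Units.mk0 z hz0 ^ m = Units.mk0 z hz0 ^ 1 := pow_eq_pow_iff_modEq.2 (by rw [ho]; exact h5)
    rw [← hu m, h7, hu, pow_one]

end Uniq

section Torus

variable {F : Type*} [Field F] {q n : ℕ}

/-- an element of `SU` in `GU` -/
def tg (g : SU n F q) : GU n F q := ⟨((g : SpecialLinearGroup (Fin n) F) : GL (Fin n) F), g.2⟩

theorem gm_tg (g : SU n F q) : gm (tg g) = mat g := rfl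

theorem f₁_tg (g : SU n F q) : toAut (tg g) 1 = MulAut.conj (pr n F q g) := f₁_eq_conj (tg g) g rfl

theorem mat_inv_mul (g : SU n F q) : mat g⁻¹ * mat g = 1 := by rw [← mat_mul, inv_mul_cancel, mat_one]

theorem mat_mul_inv (g : SU n F q) : mat g * mat g⁻¹ = 1 := by rw [← mat_mul, mul_inv_cancel, mat_one]

/-- the diagonal elements of `SU` with entries of order dividing `N` -/
def Tor (n : ℕ) (F : Type*) [Field F] (q N : ℕ) : Subgroup (SU n F q) where
  carrier := {g | ∃ d : Fin n → F, (∀ i, d i ^ N = 1) ∧ (∀ i, d i ≠ 0) ∧ mat g = diagonal d}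
  one_mem' := ⟨fun _ => 1, fun _ => one_pow _, fun _ => one_ne_zero, by rw [mat_one, diagonal_one]⟩
  mul_mem' := by
    rintro g h ⟨d, hd, h1, hg⟩ ⟨e, he, h2, hh⟩
    refine ⟨fun i => d i * e i, fun i => by rw [mul_pow, hd, he, one_mul], fun i => mul_ne_zero (h1 i) (h2 i), ?_⟩
    rw [mat_mul, hg, hh, diagonal_mul_diagonal]
  inv_mem' := by
    rintro g ⟨d, hd, h1, hg⟩
    refine ⟨fun i => (d i)⁻¹, fun i => by rw [inv_pow, hd, inv_one], fun i => inv_ne_zero (h1 i), ?_⟩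
    have h2 : mat g * diagonal (fun i => (d i)⁻¹) = 1 := by
      rw [hg, diagonal_mul_diagonal, ← diagonal_one]
      congr 1
      funext i
      exact mul_inv_cancel₀ (h1 i)
    calc mat g⁻¹ = mat g⁻¹ * (mat g * diagonal (fun i => (d i)⁻¹)) := by rw [h2, Matrix.mul_one]
      _ = _ := by rw [← Matrix.mul_assoc, mat_inv_mul, Matrix.one_mul]

theorem mem_Tor {N : ℕ} {g : SU n F q} : g ∈ Tor n F q N ↔
    ∃ d : Fin n → F, (∀ i, d i ^ N = 1) ∧ (∀ i, d i ≠ 0) ∧ mat g = diagonal d := Iff.rfl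

theorem mat_pow (g : SU n F q) (k : ℕ) : mat (g ^ k) = mat g ^ k := by
  induction k with
  | zero => rw [pow_zero, pow_zero, mat_one]
  | succ k ih => rw [pow_succ, pow_succ, mat_mul, ih]

theorem pow_of_mem_Tor {N : ℕ} {g : SU n F q} (h : g ∈ Tor n F q N) : g ^ N = 1 := by
  obtain ⟨d, hd, -, hg⟩ := h
  apply mat_injective
  rw [mat_pow, hg, diagonal_pow, mat_one, ← diagonal_one]
  congr 1
  funext i
  exact hd i

theorem isPGroup_Tor {p k : ℕ} : IsPGroup p (Tor n F q (p ^ k)) := fun g =>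
  ⟨k, Subtype.ext (pow_of_mem_Tor g.2)⟩

/-- monomial elements normalise the torus -/
theorem conj_mem_Tor {N : ℕ} {g : SU n F q} {σ : Equiv.Perm (Fin n)} (hg : Mon σ (tg g)) {t : SU n F q}
    (ht : t ∈ Tor n F q N) : g * t * g⁻¹ ∈ Tor n F q N := by
  obtain ⟨d, hd, h0, ht⟩ := ht
  refine ⟨fun i => d (σ⁻¹ i), fun i => hd _, fun i => h0 _, ?_⟩
  have h1 : mat g = mm σ (fun j => gm (tg g) (σ j) j) := hg.eq_mm
  have h2 : mat g * mat t = diagonal (fun i => d (σ⁻¹ i)) * mat g := by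
    rw [h1, ht, ← mm_diag, ← mm_diag, mm_mul, mm_mul, mul_one, one_mul]
    congr 1
    funext j
    have h3 : σ⁻¹ (σ j) = j := σ.symm_apply_apply j
    rw [h3, Equiv.Perm.one_apply, mul_comm]
  rw [mat_mul, mat_mul, h2, Matrix.mul_assoc, mat_mul_inv, Matrix.mul_one]

end Torus

section Main

variable {p : ℕ} [Fact p.Prime] {F : Type} [Field F] [Fintype F] {n q : ℕ}

/-- an element of `PSU` whose conjugation stabilises the frame comes from a monomial element -/
theorem mon_of_conj (hF : Fintype.card F = q ^ 2) (hn : 3 ≤ n) {g : SU n F q}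
    {x : Fr n F q} (hx : (x : MulAut (PSU n F q)) = MulAut.conj (pr n F q g)) : Mon (sg x) (tg g) := by
  rw [← f₁_tg, eq_toAut x] at hx
  obtain ⟨-, c, hc, h2⟩ := eq_of_toAut_eq hF hn hx
  exact (mon_mt x).smul h2

omit [Fact p.Prime] in
/-- the torus lies in the Sylow subgroup -/
theorem torus_le (hF : Fintype.card F = q ^ 2) (hn : 3 ≤ n) (Q : Sylow p (PSU n F q))
    (hQ : ∀ x ∈ Q, MulAut.conj x ∈ Fr n F q) (k : ℕ) : (Tor n F q (p ^ k)).map (pr n F q) ≤ Q := by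
  have h1 : IsPGroup p ((Tor n F q (p ^ k)).map (pr n F q)) := isPGroup_Tor.map _
  have h2 : (Q : Subgroup (PSU n F q)) ≤ Subgroup.normalizer ((Tor n F q (p ^ k)).map (pr n F q)) := by
    have h3 : ∀ x ∈ Q, ∀ t ∈ (Tor n F q (p ^ k)).map (pr n F q), x * t * x⁻¹ ∈ (Tor n F q (p ^ k)).map (pr n F q) := by
      rintro x hx _ ⟨t, ht, rfl⟩
      obtain ⟨g, rfl⟩ := pr_surjective x
      have h4 : Mon (sg ⟨MulAut.conj (pr n F q g), hQ _ hx⟩) (tg g) := mon_of_conj hF hn rfl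
      exact ⟨g * t * g⁻¹, conj_mem_Tor h4 ht, by rw [map_mul, map_mul, map_inv]⟩
    intro x hx
    rw [Subgroup.mem_normalizer_iff]
    intro t
    refine ⟨fun ht => h3 x hx t ht, fun ht => ?_⟩
    have h4 := h3 x⁻¹ (inv_mem hx) _ ht
    have h5 : x⁻¹ * (x * t * x⁻¹) * x⁻¹⁻¹ = t := by group
    rwa [h5] at h4
  have h3 := Q.is_maximal' (IsPGroup.to_sup_of_normal_right' Q.isPGroup' h1 h2) le_sup_left
  rw [← h3]
  exact le_sup_right

omit [Fact p.Prime] in
/-- some coordinate is moved -/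
theorem exists_moved (hF : Fintype.card F = q ^ 2) (hn : 3 ≤ n) (R : Subgroup (MulAut (PSU n F q)))
    (hRF : R ≤ Fr n F q) (Q : Sylow p (PSU n F q)) (hQR : ∀ x ∈ Q, MulAut.conj x ∈ R) (hQ : ¬ IsMulCommutative Q) :
    ∃ x : Fr n F q, (x : MulAut (PSU n F q)) ∈ R ∧ sg x ≠ 1 := by
  by_contra hno
  push Not at hno
  apply hQ
  rw [isMulCommutative_iff]
  have h1 : ∀ x ∈ Q, ∃ g : SU n F q, pr n F q g = x ∧ mat g = diagonal (fun j => gm (tg g) j j) := by
    intro x hx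
    obtain ⟨g, rfl⟩ := pr_surjective x
    have h2 : Mon (sg ⟨MulAut.conj (pr n F q g), hRF (hQR _ hx)⟩) (tg g) := mon_of_conj hF hn rfl
    rw [hno _ (hQR _ hx)] at h2
    exact ⟨g, rfl, h2.eq_mm.trans (mm_diag _)⟩
  rintro ⟨x, hx⟩ ⟨y, hy⟩
  obtain ⟨g, rfl, hg⟩ := h1 x hx
  obtain ⟨h, rfl, hh⟩ := h1 y hy
  apply Subtype.ext
  change pr n F q g * pr n F q h = pr n F q h * pr n F q g
  rw [← map_mul, ← map_mul]
  congr 1
  apply mat_injective
  rw [mat_mul, mat_mul, hg, hh, diagonal_mul_diagonal, diagonal_mul_diagonal]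
  congr 1
  funext j
  exact mul_comm _ _

/-- the matrix of a commutator with a diagonal element -/
def cmx (D A : GU n F q) (ρ : F ≃+* F) : GU n F q := D * (A * (mapGU ρ D)⁻¹ * A⁻¹)

omit [Fintype F] in
theorem comm_eq (D A : GU n F q) (ρ : F ≃+* F) :
    ⁅toAut D 1, toAut A ρ⁆ = toAut (cmx D A ρ) 1 := by
  have h1 : ∀ B : GU n F q, toAut B 1 = f₁ B := fun _ => rfl
  rw [h1, h1, commutatorElement_def, toAut_eq, cmx, map_mul, map_mul, map_mul, map_inv, map_inv, ← conj_field]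
  group

omit [Fintype F] in
theorem mon_cmx {D A : GU n F q} {σ : Equiv.Perm (Fin n)} (ρ : F ≃+* F) (hD : Mon 1 D) (hA : Mon σ A) :
    Mon 1 (A * (mapGU ρ D)⁻¹ * A⁻¹) := by
  have h1 := (hA.mul (hD.map ρ).inv).mul hA.inv
  have h2 : σ * 1⁻¹ * σ⁻¹ = 1 := by group
  rwa [h2] at h1

omit [Fintype F] in
theorem entry_cmx {D A : GU n F q} {σ : Equiv.Perm (Fin n)} (ρ : F ≃+* F) (hD : Mon 1 D) (hA : Mon σ A) {i j : Fin n}
    (hj : σ j = i) (h1 : gm D j j = 1) : gm (cmx D A ρ) i i = gm D i i := by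
  have hB := mon_cmx ρ hD hA
  have e1 : gm (cmx D A ρ) i i = gm D i i * gm (A * (mapGU ρ D)⁻¹ * A⁻¹) i i := hD.entry_mul hB i
  have hD' : Mon 1 (mapGU ρ D)⁻¹ := by
    have h2 := (hD.map ρ).inv
    rwa [inv_one] at h2
  have e2 : gm ((A * (mapGU ρ D)⁻¹ * A⁻¹) * A) (σ j) j = gm (A * (mapGU ρ D)⁻¹ * A⁻¹) (σ j) (σ j) * gm A (σ j) j :=
    hB.entry_mul hA j
  have e3 : gm (A * (mapGU ρ D)⁻¹) (σ j) j = gm A (σ j) j * gm (mapGU ρ D)⁻¹ j j := hA.entry_mul hD' j
  have e4 : gm ((mapGU ρ D)⁻¹ * mapGU ρ D) j j = gm (mapGU ρ D)⁻¹ j j * gm (mapGU ρ D) j j :=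
    hD'.entry_mul (hD.map ρ) j
  rw [inv_mul_cancel, gm_one, one_apply_eq, gm_map, h1, map_one, mul_one] at e4
  rw [inv_mul_cancel_right, e3, ← e4, mul_one, hj] at e2
  have h0 : gm A i j ≠ 0 := by
    have := ne_zero_of_norm (hA.norm j)
    rwa [hj] at this
  have h5 : gm (A * (mapGU ρ D)⁻¹ * A⁻¹) i i = 1 :=
    mul_right_cancel₀ h0 (by rw [one_mul]; exact e2.symm)
  rw [e1, h5, mul_one]

omit [Fintype F] in
theorem det_cmx {D : GU n F q} (A : GU n F q) (ρ : F ≃+* F) (h1 : (gm D).det = 1) : (gm (cmx D A ρ)).det = 1 := by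
  have h2 : (gm (mapGU ρ D)).det = 1 := by
    have h2 : gm (mapGU ρ D) = (ρ : F →+* F).mapMatrix (gm D) := by
      ext i j
      rfl
    rw [h2, ← RingHom.map_det, h1, map_one]
  have h3 : (gm (mapGU ρ D)⁻¹).det = 1 := by
    have h4 := congrArg Matrix.det (gm_inv_mul (mapGU ρ D))
    rw [det_mul, h2, mul_one, det_one] at h4
    exact h4
  have h5 := congrArg Matrix.det (gm_mul_inv A)
  rw [det_mul, det_one] at h5
  rw [cmx, gm_mul, gm_mul, gm_mul, det_mul, det_mul, det_mul, h1, h3, mul_one, one_mul, h5]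

omit [Fact p.Prime] in
/-- an element of order the full `p`-part of `q + 1` -/
theorem exists_order (hF : Fintype.card F = q ^ 2) {N : ℕ} (hN : N ∣ q + 1) : ∃ c : Fˣ, orderOf c = N := by
  obtain ⟨g, hg⟩ := IsCyclic.exists_ofOrder_eq_natCard (α := Fˣ)
  have h1 : Nat.card Fˣ = q ^ 2 - 1 := by
    rw [Nat.card_units, Nat.card_eq_fintype_card, hF]
  have h2 : q ^ 2 - 1 = (q + 1) * (q - 1) := by
    have := Nat.sq_sub_sq q 1
    rwa [one_pow] at this
  have h3 : N ∣ orderOf g := by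
    rw [hg, h1, h2]
    exact hN.mul_right _
  have h4 : orderOf g ≠ 0 := (orderOf_pos g).ne'
  refine ⟨g ^ (orderOf g / N), ?_⟩
  rw [orderOf_pow_of_dvd (Nat.div_ne_zero_iff_of_dvd h3 |>.2 ⟨h4, fun h => h4 (by rw [h] at h3; exact Nat.eq_zero_of_zero_dvd h3)⟩)
    (Nat.div_dvd_of_dvd h3), Nat.div_div_self h3 h4]

omit [Fintype F] in
/-- the diagonal element `c` at `i`, `c⁻¹` at `j` -/
theorem exists_torus {N : ℕ} (hN : N ∣ q + 1) {c : Fˣ} (hc : c ^ N = 1) {i j : Fin n} (hij : i ≠ j) :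
    ∃ t ∈ Tor n F q N, Mon 1 (tg t) ∧ mat t i i = c ∧ ∀ l, l ≠ i → l ≠ j → mat t l l = 1 := by
  let d : Fin n → F := fun l => (if l = i then (c : F) else 1) * (if l = j then ((c⁻¹ : Fˣ) : F) else 1)
  have h1 : (c : F) ^ N = 1 := by rw [← Units.val_pow_eq_pow_val, hc, Units.val_one]
  have h2 : ((c⁻¹ : Fˣ) : F) ^ N = 1 := by rw [← Units.val_pow_eq_pow_val, inv_pow, hc, inv_one, Units.val_one]
  have hd : ∀ l, d l ^ N = 1 := by
    intro l
    rw [mul_pow]
    split_ifs <;> simp only [h1, h2, one_pow, mul_one]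
  have h0 : ∀ l, d l ≠ 0 := by
    intro l
    refine mul_ne_zero ?_ ?_
    · split_ifs
      · exact c.ne_zero
      · exact one_ne_zero
    · split_ifs
      · exact (c⁻¹).ne_zero
      · exact one_ne_zero
  have hn1 : ∀ l, d l * d l ^ q = 1 := by
    intro l
    obtain ⟨m, hm⟩ := hN
    rw [← pow_succ', hm, pow_mul, hd, one_pow]
  have hdet : ((Equiv.Perm.sign (1 : Equiv.Perm (Fin n)) : ℤ) : F) * ∏ l, d l = 1 := by
    rw [Equiv.Perm.sign_one, Finset.prod_mul_distrib, Finset.prod_ite_eq', Finset.prod_ite_eq',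
      if_pos (Finset.mem_univ _), if_pos (Finset.mem_univ _), Units.mul_inv]
    simp
  refine ⟨msu 1 d hn1 hdet, ⟨d, hd, h0, ?_⟩, ?_, ?_, ?_⟩
  · rw [mat_msu, mm_diag]
  · exact Mon.mgu 1 d hn1
  · rw [mat_msu, mm_diag, diagonal_apply_eq]
    show (if i = i then (c : F) else 1) * (if i = j then ((c⁻¹ : Fˣ) : F) else 1) = c
    rw [if_pos rfl, if_neg hij, mul_one]
  · intro l hi hj
    rw [mat_msu, mm_diag, diagonal_apply_eq]
    show (if l = i then (c : F) else 1) * (if l = j then ((c⁻¹ : Fˣ) : F) else 1) = 1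
    rw [if_neg hi, if_neg hj, mul_one]

/-- the invariant is a homomorphism on a `p`-group of elements of the frame stabiliser fixing `i` -/
theorem exists_hom (hF : Fintype.card F = q ^ 2) (hn : 3 ≤ n) (hpq : p ∣ q + 1) {M : Type} [Group M]
    (hM : IsPGroup p M) (f : M →* Fr n F q) (i : Fin n) (hi : ∀ x, sg (f x) i = i) :
    ∃ δ : M →* Fˣ, ∀ x, (δ x : F) = dm p i (mt (f x)) := by
  have hp0 : p ≠ 0 := (Fact.out : p.Prime).ne_zero
  refine ⟨MonoidHom.mk' (fun x => Units.mk0 (dm p i (mt (f x))) (dm_ne_zero hF hp0 hpq (mon_mt _) (hi x))) ?_,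
    fun x => rfl⟩
  intro x y
  ext
  rw [Units.val_mul, Units.val_mk0, Units.val_mk0, Units.val_mk0, map_mul, dm_mt_mul hF hn p _ _ (hi x) (hi y)]
  congr 1
  obtain ⟨k, hk⟩ := hM x
  have h1 : fa (f x) ^ p ^ k = 1 := by
    have h2 : (faHom hF hn) (f x) ^ p ^ k = 1 := by rw [← map_pow, ← map_pow, hk, map_one, map_one]
    exact h2
  exact fix_of_pow h1 (dm_pow hF hpq (mon_mt _) (hi y))

end Main

theorem a_eq_one {p : ℕ} [Fact p.Prime] {F : Type} [Field F] [Fintype F] {n q : ℕ} (hF : Fintype.card F = q ^ 2)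
    (hn : 3 ≤ n) (h2 : p ≠ 2) (hpq : p ∣ q + 1) (hpn : ¬ p ∣ n) (hlt : n < p ^ 2)
    (R : Subgroup (MulAut (PSU n F q))) (hR : IsPGroup p R) (hRF : R ≤ Fr n F q) (Q : Sylow p (PSU n F q))
    (hQR : ∀ x ∈ Q, MulAut.conj x ∈ R) (hQ : ¬ IsMulCommutative Q) {a : ℕ} (hTD : Cfsg.Agent.H681.IP.TD p a R) :
    a = 1 := by
  have hp : p.Prime := Fact.out
  let ι : R →* Fr n F q := Subgroup.inclusion hRF
  let act : MulAction R (Fin n) := MulAction.compHom (Fin n) ((sgHom hF hn).comp ι)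
  have hsm : ∀ (x : R) (i : Fin n), x • i = sg (ι x) i := fun _ _ => rfl
  -- a fixed coordinate
  obtain ⟨j0, hj0⟩ := hR.nonempty_fixed_point_of_prime_not_dvd_card (Fin n)
    (by rw [Nat.card_eq_fintype_card, Fintype.card_fin]; exact hpn)
  -- a moved coordinate
  obtain ⟨x, hxR, hx⟩ := exists_moved hF hn R hRF Q hQR hQ
  obtain ⟨i, hi⟩ : ∃ i, sg x i ≠ i := by
    by_contra hno
    push Not at hno
    exact hx (Equiv.ext hno)
  let y : R := ⟨x, hxR⟩
  have hy : ι y = x := Subtype.ext rfl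
  have hyi : y • i ≠ i := by
    rw [hsm, hy]
    exact hi
  -- the orbit has size `p`
  have horb : Nat.card (orbit R i) = p := by
    obtain ⟨m, hm⟩ := hR.card_orbit i
    have h1 : Nat.card (orbit R i) ≤ n := by
      have h2 := Nat.card_le_card_of_injective (Subtype.val : orbit R i → Fin n) Subtype.val_injective
      rwa [Nat.card_eq_fintype_card (α := Fin n), Fintype.card_fin] at h2
    have h2 : m < 2 := by
      by_contra hge
      push Not at hge
      have h3 : p ^ 2 ≤ p ^ m := Nat.pow_le_pow_right hp.pos hge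
      omega
    have h3 : m ≠ 0 := by
      rintro rfl
      rw [pow_zero] at hm
      have h4 : Subsingleton (orbit R i) := (Nat.card_eq_one_iff_unique.1 hm).1
      have h5 := congrArg Subtype.val (Subsingleton.elim (⟨y • i, mem_orbit i y⟩ : orbit R i) ⟨i, mem_orbit_self i⟩)
      exact hyi h5
    have h4 : m = 1 := by omega
    rw [hm, h4, pow_one]
  have hM : (stabilizer R i).index = p := by
    rw [index_stabilizer, ← Nat.card_coe_set_eq, horb]
  have : Finite R := inferInstance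
  refine hTD.eq_one_of_index hp hR (stabilizer R i) hM fun heq => ?_
  -- the homomorphism
  obtain ⟨δ, hδ⟩ := exists_hom hF hn hpq (hR.to_subgroup (stabilizer R i)) (ι.comp (stabilizer R i).subtype) i
    (fun z => z.2)
  -- the torus element
  obtain ⟨k, m, hpm, hkm⟩ := Nat.exists_eq_pow_mul_and_not_dvd (Nat.succ_ne_zero q) p hp.ne_one
  have hk0 : k ≠ 0 := by
    rintro rfl
    rw [pow_zero, one_mul] at hkm
    exact hpm (hkm ▸ hpq)
  have hN : p ^ k ∣ q + 1 := ⟨m, hkm⟩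
  obtain ⟨c, hc⟩ := exists_order hF hN
  have hij : i ≠ j0 := by
    rintro rfl
    exact hyi (hj0 y)
  obtain ⟨t, ht, hmt, htc, ht1⟩ := exists_torus (n := n) hN (c := c) (by rw [← hc]; exact pow_orderOf_eq_one c) hij
  have htQ : pr n F q t ∈ Q := torus_le hF hn Q (fun z hz => hRF (hQR z hz)) k ⟨t, ht, rfl⟩
  let T : R := ⟨MulAut.conj (pr n F q t), hQR _ htQ⟩
  have h3 : ⁅T, y⁆ ∈ ⁅stabilizer R i, stabilizer R i⁆ := by
    rw [heq]
    exact Subgroup.commutator_mem_commutator (Subgroup.mem_top T) (Subgroup.mem_top y)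
  rw [← Subgroup.map_subtype_commutator] at h3
  obtain ⟨w, hw, hwe⟩ := h3
  have h4 : δ w = 1 := Abelianization.commutator_subset_ker δ hw
  have h5 : dm p i (mt (ι ⁅T, y⁆)) = 1 := by
    rw [← hwe]
    have h6 := hδ w
    rw [h4, Units.val_one] at h6
    exact h6.symm
  have h6 : ((ι ⁅T, y⁆ : Fr n F q) : MulAut (PSU n F q)) = toAut (cmx (tg t) (mt x) (fa x)) 1 := by
    rw [← comm_eq, f₁_tg, ← eq_toAut x]
    rfl
  have h7 : Mon 1 (cmx (tg t) (mt x) (fa x)) := by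
    have h8 := hmt.mul (mon_cmx (fa x) hmt (mon_mt x))
    rwa [mul_one] at h8
  rw [dm_eq hF hn p i h7 h6] at h5
  have h8 : gm (cmx (tg t) (mt x) (fa x)) i i = (c : F) := by
    rw [entry_cmx (fa x) hmt (mon_mt x) (i := i) (j := (sg x)⁻¹ i) ((sg x).apply_symm_apply i)]
    · exact htc
    · refine ht1 _ ?_ ?_
      · intro h9
        apply hi
        have h10 := congrArg (sg x) h9
        rw [show sg x ((sg x)⁻¹ i) = i from (sg x).apply_symm_apply i] at h10
        exact h10.symm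
      · intro h9
        apply hij
        have h10 := congrArg (sg x) h9
        rw [show sg x ((sg x)⁻¹ i) = i from (sg x).apply_symm_apply i] at h10
        have h11 := hj0 y
        rw [hsm, hy] at h11
        exact h10.trans h11
  rw [dm, h8, det_cmx (mt x) (fa x) (show (gm (tg t)).det = 1 from det_mat t), inv_one, mul_one, ← pow_mul] at h5
  have h9 : c ^ (n * ((q + 1) / p)) = 1 := by
    ext
    rw [Units.val_pow_eq_pow_val, h5, Units.val_one]
  have h10 : p ^ k ∣ n * ((q + 1) / p) := by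
    rw [← hc]
    exact orderOf_dvd_of_pow_eq_one h9
  obtain ⟨k, rfl⟩ := Nat.exists_eq_succ_of_ne_zero hk0
  have h11 : (q + 1) / p = p ^ k * m := by
    have h12 : q + 1 = p * (p ^ k * m) := by
      rw [← Nat.succ_eq_add_one, hkm, Nat.succ_eq_add_one, pow_succ]
      ring
    rw [h12, Nat.mul_div_cancel_left _ hp.pos]
  rw [h11, Nat.succ_eq_add_one, pow_succ, mul_left_comm] at h10
  have h12 : p ∣ n * m := Nat.dvd_of_mul_dvd_mul_left (pow_pos hp.pos k) h10
  rcases hp.dvd_mul.1 h12 with h13 | h13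
  · exact hpn h13
  · exact hpm h13

end Cfsg.Agent.H361.HT.AOne
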